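import Groth.Agent.SGA1Quot.Basic
import Groth.Agent.SGA1Quot.Affine

/-!
# Quotients in stages
-/

set_option autoImplicit false
set_option backward.isDefEq.respectTransparency.types false

universe u

open CategoryTheory CategoryTheory.Limits AlgebraicGeometry

namespace Groth.Agent.Quot24

variable {X Y Z : Scheme.{u}} (p : X ⟶ Y) (q : Y ⟶ Z)

theorem appLE_comm {a : X ⟶ X} {b : Y ⟶ Y} (h : a ≫ p = p ≫ b) (W : Y.Opens)
    (ha : p ⁻¹ᵁ W ≤ a ⁻¹ᵁ (p ⁻¹ᵁ W)) (hb : W ≤ b ⁻¹ᵁ W) (s : Γ(Y, W)) :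
    (a.appLE (p ⁻¹ᵁ W) (p ⁻¹ᵁ W) ha).hom ((p.app W).hom s) = (p.app W).hom ((b.appLE W W hb).hom s) := by
  have e : p.app W ≫ a.appLE (p ⁻¹ᵁ W) (p ⁻¹ᵁ W) ha = b.appLE W W hb ≫ p.app W := by
    rw [Scheme.Hom.app_eq_appLE, Scheme.Hom.appLE_comp_appLE, Scheme.Hom.appLE_comp_appLE]
    simp only [h]
  exact congrArg (fun f => f.hom s) e

theorem appLE_fixed_of_comp_eq {a : X ⟶ X} (h : a ≫ p = p) (W : Y.Opens)
    (ha : p ⁻¹ᵁ W ≤ a ⁻¹ᵁ (p ⁻¹ᵁ W)) (s : Γ(Y, W)) :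
    (a.appLE (p ⁻¹ᵁ W) (p ⁻¹ᵁ W) ha).hom ((p.app W).hom s) = (p.app W).hom s := by
  have e : p.app W ≫ a.appLE (p ⁻¹ᵁ W) (p ⁻¹ᵁ W) ha = p.app W := by
    rw [Scheme.Hom.app_eq_appLE, Scheme.Hom.appLE_comp_appLE]
    simp only [h]
  exact congrArg (fun f => f.hom s) e

theorem comp_app_apply (U : Z.Opens) (u : Γ(Z, U)) :
    ((p ≫ q).app U).hom u = (p.app (q ⁻¹ᵁ U)).hom ((q.app U).hom u) := by
  rw [Scheme.Hom.comp_app]
  rfl

variable {N H M : Type u} [Group N] [Group H] [Group M]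

/-- A quotient of a quotient is a quotient. -/
theorem isQuot_comp {σ : N →* Aut X} {τ : H →* Aut Y} {θ : M →* Aut X} (hp : SGA1.IsQuot σ p)
    (hq : SGA1.IsQuot τ q) (hinv : ∀ m, (θ m).hom ≫ p ≫ q = p ≫ q) (hlo : ∀ n, ∃ m, θ m = σ n)
    (hhi : ∀ h, ∃ m, (θ m).hom ≫ p = p ≫ (τ h).hom) : SGA1.IsQuot θ (p ≫ q) where
  affine := by haveI := hp.affine; haveI := hq.affine; infer_instance
  inv := hinv
  injective U := fun a b hab => hq.injective U (hp.injective (q ⁻¹ᵁ U) (by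
    rw [← comp_app_apply, ← comp_app_apply]; exact hab))
  range_iff U s := by
    refine ⟨fun ⟨u, hu⟩ g => hu ▸ appLE_fixed_of_comp_eq (p ≫ q) (hinv g) U _ u, fun hs => ?_⟩
    obtain ⟨v, hv⟩ := (hp.range_iff (q ⁻¹ᵁ U) s).2 fun n => by
      obtain ⟨m, hm⟩ := hlo n
      have := hs m
      simp only [hm] at this
      exact this
    obtain ⟨u, hu⟩ := (hq.range_iff U v).2 fun h => by
      obtain ⟨m, hm⟩ := hhi h
      apply hp.injective (q ⁻¹ᵁ U)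
      rw [← appLE_comm p hm (q ⁻¹ᵁ U) (SGA1.preimage_le_of_inv θ (p ≫ q) hinv m U)
        (SGA1.preimage_le_of_inv τ q hq.inv h U) v]
      subst hv
      exact hs m
    exact ⟨u, by rw [comp_app_apply, hu, hv]⟩

/-- The outer stage of a quotient in stages is a quotient. -/
theorem isQuot_of_comp [Finite N] [Finite M] {σ : N →* Aut X} {τ : H →* Aut Y} {θ : M →* Aut X}
    (hp : SGA1.IsQuot σ p) (hpq : SGA1.IsQuot θ (p ≫ q))
    (hinv : ∀ h, (τ h).hom ≫ q = q)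
    (hdesc : ∀ m, ∃ h, (θ m).hom ≫ p = p ≫ (τ h).hom) : SGA1.IsQuot τ q where
  affine := haveI := hpq.affine; SGA1Quot.isAffineHom_of_comp hp q
  inv := hinv
  injective U := fun a b hab => hpq.injective U (by
    rw [comp_app_apply, comp_app_apply]; exact congrArg _ hab)
  range_iff U s := by
    refine ⟨fun ⟨u, hu⟩ g => hu ▸ appLE_fixed_of_comp_eq q (hinv g) U _ u, fun hs => ?_⟩
    obtain ⟨u, hu⟩ := (hpq.range_iff U ((p.app (q ⁻¹ᵁ U)).hom s)).2 fun m => by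
      obtain ⟨h, hm⟩ := hdesc m
      exact (appLE_comm p hm (q ⁻¹ᵁ U) _ (SGA1.preimage_le_of_inv τ q hinv h U) s).trans
        (congrArg _ (hs h))
    refine ⟨u, hp.injective (q ⁻¹ᵁ U) ?_⟩
    rw [← comp_app_apply]
    exact hu

end Groth.Agent.Quot24
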