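import Groth.Prelude.Def_SGA1
import Mathlib.AlgebraicGeometry.Morphisms.Affine
import Mathlib.AlgebraicGeometry.Morphisms.ClosedImmersion

/-!
# Quotients of induced actions
-/

set_option autoImplicit false
set_option backward.isDefEq.respectTransparency.types false

universe u

open CategoryTheory AlgebraicGeometry TopologicalSpace Opposite

namespace Groth.Agent.Quot24

variable {G : Type u} [Group G] {X Z : Scheme.{u}} {ρ : G →* Aut X} {p : X ⟶ Z}

theorem hom_map_mul (ρ : G →* Aut X) (a b : G) : (ρ (a * b)).hom = (ρ b).hom ≫ (ρ a).hom := by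
  rw [map_mul]; rfl

theorem hom_map_one (ρ : G →* Aut X) : (ρ 1).hom = 𝟙 X := by rw [map_one]; rfl

theorem hom_hom_inv (ρ : G →* Aut X) (g : G) : (ρ g).hom ≫ (ρ g⁻¹).hom = 𝟙 X := by
  rw [← hom_map_mul, inv_mul_cancel, hom_map_one]

/-- The quotient by a finite group of an induced action is the quotient of the piece by its stabiliser. -/
theorem isQuot_induced (hP : SGA1.IsQuot ρ p) (H : Subgroup G) (Y : X.Opens)
    (hcov : ∀ x : X, ∃ g : G, x ∈ (ρ g).hom.base '' (Y : Set X))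
    (hdisj : ∀ g : G, g ∉ H → Disjoint ((ρ g).hom.base '' (Y : Set X)) (Y : Set X))
    (ρY : H →* Aut (Y : Scheme.{u})) (hρY : ∀ h : H, (ρY h).hom ≫ Y.ι = Y.ι ≫ (ρ (h : G)).hom) :
    SGA1.IsQuot ρY (Y.ι ≫ p) := by
  have hback : ∀ (g : G) (x : X), (ρ g⁻¹).hom ((ρ g).hom x) = x := fun g x => by
    rw [← Scheme.Hom.comp_apply, hom_hom_inv]; rfl
  have hmemY : ∀ (g : G) (x : X), (ρ g⁻¹).hom x ∈ Y → x ∈ (ρ g).hom.base '' (Y : Set X) := fun g x hx =>
    ⟨_, hx, by have := hback g⁻¹ x; rwa [_root_.inv_inv] at this⟩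
  have hcl : IsClosed (Set.range Y.ι) := by
    rw [Scheme.Opens.range_ι, ← isOpen_compl_iff, isOpen_iff_forall_mem_open]
    intro x hx
    obtain ⟨g, hg⟩ := hcov x
    refine ⟨(ρ g).hom.base '' (Y : Set X), ?_, (ρ g).hom.isOpenEmbedding.isOpenMap _ Y.isOpen, hg⟩
    have hgH : g ∉ H := fun hgH => hx (by
      obtain ⟨y, hy, rfl⟩ := hg
      have e := congrArg (fun f : (Y : Scheme.{u}) ⟶ X => f ⟨y, hy⟩) (hρY ⟨g, hgH⟩)
      simp only [Scheme.Hom.comp_apply] at e
      rw [show (ρ g).hom y = Y.ι ((ρY ⟨g, hgH⟩).hom ⟨y, hy⟩) from e.symm]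
      exact ((ρY ⟨g, hgH⟩).hom ⟨y, hy⟩).2)
    exact (hdisj g hgH).subset_compl_right
  haveI : IsClosedImmersion Y.ι := IsClosedImmersion.of_isPreimmersion Y.ι hcl
  haveI := hP.affine
  have hinv : ∀ h : H, (ρY h).hom ≫ Y.ι ≫ p = Y.ι ≫ p := fun h => by
    rw [← Category.assoc, hρY, Category.assoc, hP.inv]
  -- the pieces over an open set
  have key : ∀ (U : Z.Opens), Function.Injective ((Y.ι ≫ p).app U).hom ∧
      ∀ t : Γ((Y : Scheme.{u}), (Y.ι ≫ p) ⁻¹ᵁ U), (∀ h : H,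
        ((ρY h).hom.appLE ((Y.ι ≫ p) ⁻¹ᵁ U) ((Y.ι ≫ p) ⁻¹ᵁ U) (SGA1.preimage_le_of_inv ρY _ hinv h U)).hom t = t) →
          ∃ u : Γ(Z, U), ((Y.ι ≫ p).app U).hom u = t := by
    intro U
    let W := p ⁻¹ᵁ U
    let A := Y.ι ''ᵁ (Y.ι ⁻¹ᵁ W)
    have hA : A = Y ⊓ W := by
      show Y.ι ''ᵁ (Y.ι ⁻¹ᵁ W) = _
      rw [Scheme.Hom.image_preimage_eq_opensRange_inf, Scheme.Opens.opensRange_ι]
    have hAW : A ≤ W := hA.le.trans inf_le_right
    let P : G → X.Opens := fun g => (ρ g⁻¹).hom ⁻¹ᵁ A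
    have hPW : ∀ g, P g ≤ W := fun g x hx => by
      have h1 : p ((ρ g⁻¹).hom x) ∈ U := hAW hx
      rwa [← Scheme.Hom.comp_apply, hP.inv] at h1
    have hcover : W ≤ ⨆ g, P g := fun x hx => by
      obtain ⟨g, y, hy, rfl⟩ := hcov x
      refine Opens.mem_iSup.2 ⟨g, ?_⟩
      show (ρ g⁻¹).hom ((ρ g).hom y) ∈ A
      rw [hback, hA]
      refine ⟨hy, ?_⟩
      show p y ∈ U
      rw [← hP.inv g, Scheme.Hom.comp_apply]
      exact hx
    -- the composite with the inclusion
    have hι : Y.ι.appLE A (Y.ι ⁻¹ᵁ W) (Y.ι.preimage_image_eq _).ge = 𝟙 _ := by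
      rw [Scheme.Opens.ι_appLE]
      exact X.presheaf.map_id _
    have happ : ∀ u : Γ(Z, U), ((Y.ι ≫ p).app U).hom u = (X.presheaf.map (homOfLE hAW).op).hom ((p.app U).hom u) :=
      fun u => by
        have e : (Y.ι ≫ p).app U = p.app U ≫ X.presheaf.map (homOfLE hAW).op ≫
            Y.ι.appLE A (Y.ι ⁻¹ᵁ W) (Y.ι.preimage_image_eq _).ge := by
          rw [Scheme.Hom.map_appLE, Scheme.Hom.app_eq_appLE (f := p), Scheme.Hom.appLE_comp_appLE, Scheme.Hom.app_eq_appLE]
          rfl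
        rw [e, hι]
        rfl
    refine ⟨fun u u' huu => hP.injective U (X.sheaf.eq_of_locally_eq' P W (fun g => homOfLE (hPW g)) hcover _ _
      fun g => ?_), fun t ht => ?_⟩
    · have hfix : ∀ v : Γ(Z, U), (X.presheaf.map (homOfLE (hPW g)).op).hom ((p.app U).hom v) =
          ((ρ g⁻¹).hom.appLE A (P g) le_rfl).hom ((X.presheaf.map (homOfLE hAW).op).hom ((p.app U).hom v)) := fun v => by
        rw [← CommRingCat.comp_apply, ← CommRingCat.comp_apply, ← CommRingCat.comp_apply]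
        congr 2
        rw [Scheme.Hom.map_appLE, Scheme.Hom.app_eq_appLE, Scheme.Hom.appLE_map,
          Scheme.Hom.appLE_comp_appLE]
        simp only [hP.inv]
      show (X.presheaf.map _).hom _ = (X.presheaf.map _).hom _
      rw [hfix, hfix, ← happ, ← happ, huu]
    · let t' : Γ(X, A) := t
      -- invariance on `X`
      have ht' : ∀ (h : G) (hh : h ∈ H) (e : A ≤ (ρ h).hom ⁻¹ᵁ A), ((ρ h).hom.appLE A A e).hom t' = t' := by
        intro h hh e
        have h1 := ht ⟨h, hh⟩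
        have e1 : (ρY ⟨h, hh⟩).hom.appLE (Y.ι ⁻¹ᵁ W) (Y.ι ⁻¹ᵁ W) (SGA1.preimage_le_of_inv ρY _ hinv ⟨h, hh⟩ U) =
            (ρ h).hom.appLE A A e := by
          have e2 : Y.ι.appLE A (Y.ι ⁻¹ᵁ W) (Y.ι.preimage_image_eq _).ge ≫
              (ρY ⟨h, hh⟩).hom.appLE (Y.ι ⁻¹ᵁ W) (Y.ι ⁻¹ᵁ W) (SGA1.preimage_le_of_inv ρY _ hinv ⟨h, hh⟩ U) =
              (ρ h).hom.appLE A A e ≫ Y.ι.appLE A (Y.ι ⁻¹ᵁ W) (Y.ι.preimage_image_eq _).ge := by
            rw [Scheme.Hom.appLE_comp_appLE, Scheme.Hom.appLE_comp_appLE]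
            simp only [hρY]
          rw [hι] at e2
          exact ((Category.id_comp _).symm.trans e2).trans (Category.comp_id _)
        exact (congrArg (fun f => f.hom t) e1).symm.trans h1
      let s : ∀ g, Γ(X, P g) := fun g => ((ρ g⁻¹).hom.appLE A (P g) le_rfl).hom t'
      have hcompat : TopCat.Presheaf.IsCompatible X.sheaf.1 P s := by
        intro g g'
        show (X.presheaf.map _).hom (((ρ g⁻¹).hom.appLE A (P g) le_rfl).hom t') =
          (X.presheaf.map _).hom (((ρ g'⁻¹).hom.appLE A (P g') le_rfl).hom t')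
        rw [← CommRingCat.comp_apply, ← CommRingCat.comp_apply, Scheme.Hom.appLE_map, Scheme.Hom.appLE_map]
        by_cases hg : g⁻¹ * g' ∈ H
        · have eA : A ≤ (ρ (g⁻¹ * g')).hom ⁻¹ᵁ A := fun y hy => by
            rw [hA] at hy ⊢
            refine ⟨?_, ?_⟩
            · have e := congrArg (fun f : (Y : Scheme.{u}) ⟶ X => f ⟨y, hy.1⟩) (hρY ⟨_, hg⟩)
              simp only [Scheme.Hom.comp_apply] at e
              show (ρ (g⁻¹ * g')).hom y ∈ Y
              rw [show (ρ (g⁻¹ * g')).hom y = Y.ι ((ρY ⟨_, hg⟩).hom ⟨y, hy.1⟩) from e.symm]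
              exact ((ρY ⟨_, hg⟩).hom ⟨y, hy.1⟩).2
            · show p ((ρ (g⁻¹ * g')).hom y) ∈ U
              rw [← Scheme.Hom.comp_apply, hP.inv]
              exact hy.2
          have e : (ρ g⁻¹).hom = (ρ g'⁻¹).hom ≫ (ρ (g⁻¹ * g')).hom := by
            rw [← hom_map_mul]; congr 2; group
          simp only [e]
          rw [← Scheme.Hom.appLE_comp_appLE _ _ A A (P g ⊓ P g') eA inf_le_right, CommRingCat.comp_apply]
          exact congrArg _ (ht' _ hg eA)
        · haveI : Subsingleton Γ(X, P g ⊓ P g') := by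
            have : P g ⊓ P g' = ⊥ := Opens.ext (Set.eq_empty_iff_forall_notMem.2 fun x hx => by
              have h1 : (ρ g⁻¹).hom x ∈ Y := (hA.le hx.1).1
              have h2 : (ρ g'⁻¹).hom x ∈ Y := (hA.le hx.2).1
              refine Set.disjoint_left.1 (hdisj _ hg) (hmemY _ _ ?_) h1
              rw [← Scheme.Hom.comp_apply, ← hom_map_mul]
              convert h2 using 4
              group)
            exact CommRingCat.subsingleton_of_isTerminal (X.sheaf.isTerminalOfEqEmpty this)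
          exact Subsingleton.elim _ _
      obtain ⟨w, hw, -⟩ := X.sheaf.existsUnique_gluing' P W (fun g => homOfLE (hPW g)) hcover s hcompat
      have hw' : ∀ g, (X.presheaf.map (homOfLE (hPW g)).op).hom w = s g := hw
      obtain ⟨u, hu⟩ := (hP.range_iff U w).2 fun m => by
        refine X.sheaf.eq_of_locally_eq' P W (fun g => homOfLE (hPW g)) hcover _ _ fun g => ?_
        show (X.presheaf.map _).hom _ = (X.presheaf.map (homOfLE (hPW g)).op).hom w
        rw [hw', ← CommRingCat.comp_apply, Scheme.Hom.appLE_map]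
        have em : (ρ m).hom ≫ (ρ (m * g)⁻¹).hom = (ρ g⁻¹).hom := by
          rw [← hom_map_mul]; congr 2; group
        have eP : P g ≤ (ρ m).hom ⁻¹ᵁ P (m * g) := le_of_eq (by
          show (ρ g⁻¹).hom ⁻¹ᵁ A = (ρ m).hom ⁻¹ᵁ ((ρ (m * g)⁻¹).hom ⁻¹ᵁ A)
          rw [← Scheme.Hom.comp_preimage, em])
        rw [← Scheme.Hom.map_appLE (ρ m).hom eP (homOfLE (hPW (m * g))).op, CommRingCat.comp_apply, hw']
        show _ = ((ρ g⁻¹).hom.appLE A (P g) le_rfl).hom t'
        rw [← CommRingCat.comp_apply, Scheme.Hom.appLE_comp_appLE]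
        simp only [em]
      refine ⟨u, ?_⟩
      rw [happ, hu]
      have h1 : A ≤ P 1 := fun x hx => by
        show (ρ (1 : G)⁻¹).hom x ∈ A
        rw [inv_one, hom_map_one]; exact hx
      calc (X.presheaf.map (homOfLE hAW).op).hom w
          = (X.presheaf.map (homOfLE h1).op).hom ((X.presheaf.map (homOfLE (hPW 1)).op).hom w) := by
            rw [← CommRingCat.comp_apply, ← X.presheaf.map_comp]; rfl
        _ = t' := by
            rw [hw', ← CommRingCat.comp_apply, Scheme.Hom.appLE_map]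
            have e : (ρ (1 : G)⁻¹).hom = 𝟙 X := by rw [inv_one, hom_map_one]
            simp only [e]
            rw [Scheme.Hom.appLE]
            simp
            erw [X.presheaf.map_id]
            rfl
  exact ⟨inferInstance, hinv, fun U => (key U).1, fun U t => ⟨fun ⟨u, hu⟩ h => by
    rw [← hu, ← CommRingCat.comp_apply, Scheme.Hom.app_eq_appLE, Scheme.Hom.appLE_comp_appLE]
    simp only [hinv], (key U).2 t⟩⟩

end Groth.Agent.Quot24
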